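import Cfsg.Agent.H7.Mx2
import Cfsg.Agent.S0243

set_option autoImplicit false
set_option linter.unusedVariables false
set_option maxRecDepth 100000
set_option Elab.async false

namespace CfsgH7.L32

open Cfsg Mx Matrix

def L0 : ℕ := 0x10000000000000000010000000000000010
def L1 : ℕ := 0x10100000000000000100000000000000001
def L2 : ℕ := 0x10000000000000000100000000000000111
noncomputable def L (i : ℕ) : ℕ := (@Bool.rec (fun _ => ℕ) L0 (@Bool.rec (fun _ => ℕ) L1 L2 (Nat.ble (nat_lit 2) i)) (Nat.ble (nat_lit 1) i))
noncomputable def l0 : ℕ := nat_lit 0x610006000021000200006100060000000000000111000051000500005100050000410004000000000000011000003100030000010000000051000500000000000001010000410004000031000300003100030000000000000100000011000100006100060000210002000000000000001100002100020000110001000001000000000000000000100000010000000041000400001100010000000000000001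
noncomputable def TT (i : ℕ) : ℕ := l0
noncomputable def R (p : ℕ) : ℕ := prow TT (nat_lit 184) (nat_lit 0xffffffffffffffffffffffffffffffffffffffffffffff) p
noncomputable def T : MT := ⟨K2, 3, 7, 3, R, L, [0, 1, 3]⟩
theorem c0 : blk T.ptOk 7 0 1 = true := by decide +kernel
theorem a1 : Blk T.ptOk 7 1 := Blk.step Blk.zero c0 rfl
theorem ok : T.Ok := Blk.all a1 (by decide)
def AL : List (ℕ × ℕ × List ℕ) := [(0, 7, [0x1, 0x20001, 0x40001]), (1, 6, [0x40001, 0x200003, 0x240420005]), (3, 4, [0x240420005, 0x42404240007])]
theorem ch : MT.chk T.tb 0 AL 168 = true := by decide +kernel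
theorem full {F : Type*} [Field F] [Fintype F] (hF : Fintype.card F = 2) : Nat.card (Matrix.ProjectiveSpecialLinearGroup (Fin 3) F) = 168 ∧ Finite (Matrix.ProjectiveSpecialLinearGroup (Fin 3) F) ∧ ∃ (_ : MulAction (Matrix.ProjectiveSpecialLinearGroup (Fin 3) F) (Submodule F (Fin 3 → F))) (W : WT T.tb (Matrix.ProjectiveSpecialLinearGroup (Fin 3) F) (Submodule F (Fin 3 → F))), cl W.gen 16 = ⊤ := by
  obtain ⟨E, _, he⟩ := encP (K := K2) (by norm_num) hF (by decide +kernel)
  have a : Nat.card (Matrix.ProjectiveSpecialLinearGroup (Fin 3) F) = 168 := by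
    have := Cfsg.Agent.S0243.result hF 3 (by norm_num)
    simp [Fin.prod_univ_succ] at this
    omega
  exact ⟨a, ok.qfull E (Equiv.refl _) (slToMat 3 F) _ sl_center (fun i hi => by
    have hi : i < 3 := hi
    interval_cases i
    exacts [in_sl E (n := 3) (by decide) (Equiv.refl _) hF (k := 2) (L := L0) (by decide +kernel), in_sl E (n := 3) (by decide) (Equiv.refl _) hF (k := 2) (L := L1) (by decide +kernel), in_sl E (n := 3) (by decide) (Equiv.refl _) hF (k := 2) (L := L2) (by decide +kernel)]) ch a (by norm_num)⟩

end CfsgH7.L32
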