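import Cfsg.Agent.H7.Mx2
import Cfsg.Agent.S0243

set_option autoImplicit false
set_option linter.unusedVariables false
set_option maxRecDepth 100000
set_option Elab.async false

namespace CfsgH7.L34

open Cfsg Mx Matrix

def L0 : ℕ := 0x30200000000000001110000000000000203
def L1 : ℕ := 0x23000000000000003200000000000000331
def L2 : ℕ := 0x200000000000002130000000000000300
noncomputable def L (i : ℕ) : ℕ := (@Bool.rec (fun _ => ℕ) L0 (@Bool.rec (fun _ => ℕ) L1 L2 (Nat.ble (nat_lit 2) i)) (Nat.ble (nat_lit 1) i))
noncomputable def l0 : ℕ := nat_lit 0xa2000a0001410014000042000400000000000003310000620006000042000400000200000000000000000321000092000900005200050000320003000000000000031100000200000000b1000b0000e1000e000000000000031000008200080000f3000f000022000200000000000003010000f1000f0001020010000053000500000000000002310000e1000e0000e1000e000111001100000000000002210000d1000d00002300020000c2000c0000000000000211000031000300003200030000d3000d00000000000002100000b1000b000111001100007300070000000000000201000143001400001200010000a1000a000000000000013100012300120000630006000091000900000000000001210001030010000081000800008100080000000000000111000023000200007100070000b2000b00000000000001100001330013000092000900006100060000000000000101000043000400012300120000f2000f000000000000010000005200050001330013000143001400000000000000310000c1000c0000c3000c0001230012000000000000002100007200070000d2000d0001030010000000000000001100001100010000a3000a000011000100000000000000100001130011000001000000013300130000000000000001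
noncomputable def TT (i : ℕ) : ℕ := l0
noncomputable def R (p : ℕ) : ℕ := prow TT (nat_lit 184) (nat_lit 0xffffffffffffffffffffffffffffffffffffffffffffff) p
noncomputable def T : MT := ⟨K4, 3, 21, 3, R, L, [0, 1, 2, 5]⟩
theorem c0 : blk T.ptOk 21 0 1 = true := by decide +kernel
theorem a1 : Blk T.ptOk 21 1 := Blk.step Blk.zero c0 rfl
theorem ok : T.Ok := Blk.all a1 (by decide)
def AL : List (ℕ × ℕ × List ℕ) := [(0, 21, [0x1, 0x20001, 0x40001]), (1, 20, [0x20001, 0x402040005, 0x4202400007]), (2, 3, [0x4240240420402000e]), (5, 16, [0x40400005, 0x4202400007, 0x40204240204000b, 0x240240420420000d])]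
theorem ch : MT.chk T.tb 2 AL 20160 = true := by decide +kernel
theorem full {F : Type*} [Field F] [Fintype F] (hF : Fintype.card F = 4) : Nat.card (Matrix.ProjectiveSpecialLinearGroup (Fin 3) F) = 20160 ∧ Finite (Matrix.ProjectiveSpecialLinearGroup (Fin 3) F) ∧ ∃ (_ : MulAction (Matrix.ProjectiveSpecialLinearGroup (Fin 3) F) (Submodule F (Fin 3 → F))) (W : WT T.tb (Matrix.ProjectiveSpecialLinearGroup (Fin 3) F) (Submodule F (Fin 3 → F))), cl W.gen 16 = ⊤ := by
  obtain ⟨E, -⟩ := enc4 hF
  have a : Nat.card (Matrix.ProjectiveSpecialLinearGroup (Fin 3) F) = 20160 := by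
    have := Cfsg.Agent.S0243.result hF 3 (by norm_num)
    simp [Fin.prod_univ_three] at this
    omega
  exact ⟨a, ok.qfull E (Equiv.refl _) (slToMat 3 F) _ sl_center (fun i hi => by
    have hi : i < 3 := hi
    interval_cases i
    exacts [in_sl E (n := 3) (by decide) (Equiv.refl _) hF (k := 2) (L := L0) (by decide +kernel), in_sl E (n := 3) (by decide) (Equiv.refl _) hF (k := 2) (L := L1) (by decide +kernel), in_sl E (n := 3) (by decide) (Equiv.refl _) hF (k := 2) (L := L2) (by decide +kernel)]) ch a (by norm_num)⟩

end CfsgH7.L34
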