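import Cfsg.Agent.H7.Mx2
import Cfsg.Agent.S0280

set_option autoImplicit false
set_option linter.unusedVariables false
set_option maxRecDepth 100000
set_option Elab.async false

namespace CfsgH7.U33

open Cfsg Mx Matrix

def L0 : ℕ := 0x10000000000000000740000000000000054
def L1 : ℕ := 0x7500000000000008110000000000000822
noncomputable def L (i : ℕ) : ℕ := (@Bool.rec (fun _ => ℕ) L0 L1 (Nat.ble (nat_lit 1) i))
noncomputable def l0 : ℕ := nat_lit 0xa8000e000165000d0000000000000810000178001600017400080000000000000801000182001300006500090000000000000710000132001900007400140000000000000701000167001a000088001a00000000000006610001a100170000d8001b00000000000006310000150008000112000e000000000000062100009300020001860007000000000000061100019100180000a50005000000000000051000012100120000b4000c00000000000005010000f5000b0000e50015000000000000041000006500070000f4000400000000000004010000b50011000048001000000000000003610001b3000a0001580011000000000000033100000700040001b2001600000000000003210000580003000126000b0000000000000311000116000f0000c8001200000000000002610000e8001b0000580013000000000000023100002400140001920006000000000000022100015500010001a600170000000000000211000101000600014800180000000000000161000074001000009800190000000000000131000038000c000132000a00000000000001210000d60000000106000f00000000000001110000c3000500001300000000000000000081000144000900002100020000000000000071000086001500000700030000000000000051000047000d00003500010000000000000041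
noncomputable def TT (i : ℕ) : ℕ := l0
noncomputable def R (p : ℕ) : ℕ := prow TT (nat_lit 144) (nat_lit 0xffffffffffffffffffffffffffffffffffff) p
noncomputable def T : MT := ⟨K9, 3, 28, 2, R, L, [0, 1, 2, 4]⟩
theorem c0 : blk T.ptOk 28 0 1 = true := by decide +kernel
theorem a1 : Blk T.ptOk 28 1 := Blk.step Blk.zero c0 rfl
theorem ok : T.Ok := Blk.all a1 (by decide)
def AL : List (ℕ × ℕ × List ℕ) := [(0, 28, [0x1, 0x20001]), (1, 27, [0x3130300006, 0x3020210006]), (2, 2, [0x212031303020000c]), (4, 4, [0x3130312020303000d])]
theorem ch : MT.chk T.tb 2 AL 6048 = true := by decide +kernel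
theorem full {F : Type*} [Field F] [Fintype F] (hF : Fintype.card F = 9) : Nat.card (PSU 3 F 3) = 6048 ∧ Finite (PSU 3 F 3) ∧ ∃ (_ : MulAction (PSU 3 F 3) (Submodule F (Fin 3 → F))) (W : WT T.tb (PSU 3 F 3) (Submodule F (Fin 3 → F))), cl W.gen 16 = ⊤ := by
  obtain ⟨E⟩ := enc9 hF
  have hq : Fintype.card F = 3 ^ 2 := hF
  have a : Nat.card (PSU 3 F 3) = 6048 := by
    have := Cfsg.Agent.S0280.result hq 3 (by norm_num)
    simp +decide [Finset.prod_range_succ] at this
    omega
  exact ⟨a, ok.qfull E (Equiv.refl _) ((slToMat 3 F).comp (SU 3 F 3).subtype) _ (fun z hz => (CfsgH5.mem_center_SU hq (by norm_num)).mp hz) (fun i hi => by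
    have hi : i < 2 := hi
    interval_cases i
    exacts [in_su E (n := 3) (by decide) (Equiv.refl _) hF hq (k := 3) (L := L0) (by decide +kernel), in_su E (n := 3) (by decide) (Equiv.refl _) hF hq (k := 3) (L := L1) (by decide +kernel)]) ch a (by norm_num)⟩

end CfsgH7.U33
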